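import Cfsg.Agent.H94.HS.Main
import Cfsg.Agent.H87.HNOut.HSFacts
import Cfsg.Prelude.Def_SporadicB

/-!
A nonsplit double cover of `HS` is perfect and has no proper perfect central extension.
-/

set_option autoImplicit false

namespace Cfsg.Agent.H87.HNMult

open Cfsg
open scoped commutatorElement

theorem perfect_of_cover {K : Type} [Group K] (h : IsNonsplitDoubleCover K ↥Spor.HS) :
    commutator K = ⊤ := by
  obtain ⟨h2, ⟨e⟩, hns⟩ := h
  let p : K →* ↥Spor.HS := e.toMonoidHom.comp (QuotientGroup.mk' (Subgroup.center K))
  have hp : Function.Surjective p := e.surjective.comp (QuotientGroup.mk'_surjective _)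
  have hker : p.ker = Subgroup.center K := by ext k; simp [p]
  have hsup : commutator K ⊔ Subgroup.center K = ⊤ := by
    rw [← hker, ← Subgroup.comap_map_eq]
    have : (commutator K).map p = ⊤ := by
      rw [commutator_def, Subgroup.map_commutator, Subgroup.map_top_of_surjective p hp,
        ← commutator_def, HNOut.commutator_HS]
    rw [this, Subgroup.comap_top]
  by_cases hd : Disjoint (Subgroup.center K) (commutator K)
  · exfalso
    refine hns (commutator K) (Subgroup.isComplement'_of_disjoint_and_mul_eq_univ hd ?_)
    rw [← Subgroup.normal_mul, sup_comm, hsup, Subgroup.coe_top]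
  · rw [← hsup, eq_comm, sup_eq_left]
    rw [Subgroup.disjoint_def] at hd
    push Not at hd
    obtain ⟨w, hw1, hw2, hw⟩ := hd
    obtain ⟨u, -, huniq⟩ := (Nat.card_eq_two_iff' (1 : Subgroup.center K)).1 h2
    intro v hv
    by_cases hv1 : v = 1
    · rw [hv1]; exact one_mem _
    have e1 := huniq ⟨v, hv⟩ (fun e => hv1 (congrArg Subtype.val e))
    have e2 := huniq ⟨w, hw1⟩ (fun e => hw (congrArg Subtype.val e))
    rw [show v = w from congrArg Subtype.val (e1.trans e2.symm)]
    exact hw2

/-- A perfect group mapping onto a nonsplit double cover of `HS` with central kernel maps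
isomorphically: the multiplier of `HS` has order 2. -/
theorem injective_of_cover {D K : Type} [Group D] [Group K] [Finite D] (p : D →* K)
    (hp : Function.Surjective p) (hperf : commutator D = ⊤) (hc : p.ker ≤ Subgroup.center D)
    (hK : IsNonsplitDoubleCover K ↥Spor.HS) : Function.Injective p := by
  obtain ⟨h2, ⟨e⟩, -⟩ := hK
  let q : D →* ↥Spor.HS := (e.toMonoidHom.comp (QuotientGroup.mk' (Subgroup.center K))).comp p
  have hq : Function.Surjective q :=
    (e.surjective.comp (QuotientGroup.mk'_surjective _)).comp hp
  have hst : IsStemExtension q := by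
    refine ⟨hq, fun u hu => ?_, by rw [hperf]; exact le_top⟩
    have hpu : p u ∈ Subgroup.center K := by
      rw [← QuotientGroup.eq_one_iff]
      apply e.injective
      rw [map_one]
      exact MonoidHom.mem_ker.1 hu
    have hmem : ∀ v, ⁅u, v⁆ ∈ p.ker := fun v => by
      rw [MonoidHom.mem_ker, map_commutatorElement, commutatorElement_eq_one_iff_mul_comm]
      exact (Subgroup.mem_center_iff.1 hpu (p v)).symm
    let φ : D →* Subgroup.center D :=
      { toFun := fun v => ⟨⁅u, v⁆, hc (hmem v)⟩
        map_one' := Subtype.ext (commutatorElement_one_right u)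
        map_mul' := fun v w => Subtype.ext (by
          show ⁅u, v * w⁆ = ⁅u, v⁆ * ⁅u, w⁆
          have hw : v * ⁅u, w⁆ = ⁅u, w⁆ * v := Subgroup.mem_center_iff.1 (hc (hmem w)) v
          calc ⁅u, v * w⁆ = ⁅u, v⁆ * (v * ⁅u, w⁆) * v⁻¹ := by
                rw [commutatorElement_def, commutatorElement_def, commutatorElement_def]; group
            _ = _ := by rw [hw]; group) }
    have htop : φ.ker = ⊤ := by
      rw [eq_top_iff, ← hperf, commutator_def, Subgroup.commutator_le]
      intro a _ b _
      rw [MonoidHom.mem_ker, map_commutatorElement, commutatorElement_eq_one_iff_mul_comm]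
      exact mul_comm' (φ a) (φ b)
    rw [Subgroup.mem_center_iff]
    intro v
    have hm : φ v = 1 := MonoidHom.mem_ker.1 (htop.symm ▸ Subgroup.mem_top v)
    have h : ⁅u, v⁆ = 1 := congrArg Subtype.val hm
    exact (commutatorElement_eq_one_iff_mul_comm.1 h).symm
  obtain ⟨π, hπ⟩ := H94.HS.hasCyclicSchurMultiplier_HS.2 D q hst
  have hk : Nat.card q.ker ≤ 2 :=
    (Nat.card_le_card_of_surjective π hπ).trans_eq (by simp)
  have hfinK : Finite K := Finite.of_surjective p hp
  have hDK : Nat.card D ≤ Nat.card K := by
    rw [← q.ker.card_mul_index, Subgroup.index_ker, MonoidHom.range_eq_top.2 hq, Subgroup.card_top,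
      Subgroup.card_eq_card_quotient_mul_card_subgroup (Subgroup.center K), h2,
      Nat.card_congr e.toEquiv, mul_comm]
    exact Nat.mul_le_mul_left _ hk
  exact ((Nat.bijective_iff_surjective_and_card p).2
    ⟨hp, le_antisymm hDK (Nat.card_le_card_of_surjective p hp)⟩).1

end Cfsg.Agent.H87.HNMult
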