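import Cfsg.Agent.H87.HNMult.Perfect
import Cfsg.Agent.H87.HNOut.Glue

/-!
Central extensions of presented `HN` split: the `x, y, z` relators lift exactly inside the perfect
double cover, and two scalars normalise the lifts of `z` and `t`.
-/

set_option autoImplicit false
set_option maxRecDepth 100000

namespace Cfsg.Agent.H87.HNMult

open Cfsg Cfsg.Spor
open Cfsg.Agent.H87.HNOut (gX gY gZ gT KK KK_facts KK_cover rel_one zsq tfive txc tyc zt_cube)
open scoped commutatorElement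

/-- The subgroup `2.HS` is a nonsplit double cover of `HS`. -/
theorem kk_cover : IsNonsplitDoubleCover KK ↥Spor.HS :=
  KK_cover H67.HN.card_F H67.HN.nu_injective

section
variable {Γ : Type} [Group Γ] (σ : Γ →* Spor.HN) (hσ : Function.Surjective σ)
  (hc : σ.ker ≤ Subgroup.center Γ)

/-- The perfect lift of `2.HS`. -/
noncomputable def lft : Subgroup Γ := ⁅KK.comap σ, KK.comap σ⁆

include hσ in
theorem lft_map : (lft σ).map σ = KK := by
  rw [lft, Subgroup.map_commutator, Subgroup.map_comap_eq_self_of_surjective hσ]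
  have h : (commutator KK).map KK.subtype = KK := by
    rw [perfect_of_cover kk_cover, ← MonoidHom.range_eq_map, Subgroup.range_subtype]
  rw [commutator_def, Subgroup.map_commutator, ← MonoidHom.range_eq_map,
    Subgroup.range_subtype] at h
  exact h

include hσ hc in
theorem lft_perfect : ⁅lft σ, lft σ⁆ = lft σ := by
  refine le_antisymm (Subgroup.commutator_le.2 fun a ha b hb =>
    mul_mem (mul_mem (mul_mem ha hb) (inv_mem ha)) (inv_mem hb)) ?_
  conv_lhs => unfold lft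
  rw [Subgroup.commutator_le]
  intro a ha b hb
  obtain ⟨a', ha', ea⟩ := (lft_map σ hσ).symm ▸ (ha : σ a ∈ KK)
  obtain ⟨b', hb', eb⟩ := (lft_map σ hσ).symm ▸ (hb : σ b ∈ KK)
  obtain ⟨i, hi⟩ : ∃ i, i = a'⁻¹ * a := ⟨_, rfl⟩
  obtain ⟨j, hj⟩ : ∃ j, j = b'⁻¹ * b := ⟨_, rfl⟩
  have hai : a = a' * i := by rw [hi, mul_inv_cancel_left]
  have hbj : b = b' * j := by rw [hj, mul_inv_cancel_left]
  have hic : ∀ w, Commute i w := fun w => (Subgroup.mem_center_iff.1 (hc (by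
    rw [MonoidHom.mem_ker, hi, map_mul, map_inv, ea, inv_mul_cancel])) w).symm
  have hjc : ∀ w, Commute j w := fun w => (Subgroup.mem_center_iff.1 (hc (by
    rw [MonoidHom.mem_ker, hj, map_mul, map_inv, eb, inv_mul_cancel])) w).symm
  have e : ⁅a, b⁆ = ⁅a', b'⁆ := by
    rw [hai, hbj, commutatorElement_def, commutatorElement_def, mul_inv_rev, mul_inv_rev]
    calc a' * i * (b' * j) * (i⁻¹ * a'⁻¹) * (j⁻¹ * b'⁻¹)
        = a' * (i * (b' * j) * i⁻¹) * a'⁻¹ * j⁻¹ * b'⁻¹ := by group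
      _ = a' * b' * (j * a'⁻¹ * j⁻¹) * b'⁻¹ := by
          rw [(hic (b' * j)).eq, mul_inv_cancel_right]; group
      _ = a' * b' * a'⁻¹ * b'⁻¹ := by rw [(hjc a'⁻¹).eq, mul_inv_cancel_right]
  rw [e]
  exact Subgroup.commutator_mem_commutator ha' hb'

include hσ hc in
theorem lft_exact [Finite Γ] {u : Γ} (hu : u ∈ lft σ) (h1 : σ u = 1) : u = 1 := by
  let p : lft σ →* KK := (σ.comp (lft σ).subtype).codRestrict KK fun v => by
    have h : σ (v : Γ) ∈ (lft σ).map σ := Subgroup.mem_map_of_mem σ v.2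
    rwa [lft_map σ hσ] at h
  have hp : Function.Surjective p := by
    intro k
    have hk : (k : Spor.HN) ∈ (lft σ).map σ := by rw [lft_map σ hσ]; exact k.2
    obtain ⟨a, ha, e⟩ := hk
    exact ⟨⟨a, ha⟩, Subtype.ext e⟩
  have hperf : commutator (lft σ) = ⊤ := by
    refine Subgroup.map_injective (lft σ).subtype_injective ?_
    rw [commutator_def, Subgroup.map_commutator, ← MonoidHom.range_eq_map, Subgroup.range_subtype,
      lft_perfect σ hσ hc]
  have hpc : p.ker ≤ Subgroup.center (lft σ) := fun v hv => Subgroup.mem_center_iff.2 fun w =>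
    Subtype.ext (Subgroup.mem_center_iff.1 (hc (congrArg Subtype.val (MonoidHom.mem_ker.1 hv))) w)
  have := injective_of_cover p hp hperf hpc kk_cover (a₁ := ⟨u, hu⟩) (a₂ := 1)
    (by rw [map_one]; exact Subtype.ext h1)
  exact congrArg Subtype.val this

theorem lft_conj (hn : ∀ k ∈ KK, gZ * k * gZ⁻¹ ∈ KK) {g : Γ} (hg : σ g = gZ) {u : Γ}
    (hu : u ∈ lft σ) : g * u * g⁻¹ ∈ lft σ := by
  have h : (MulAut.conj g).toMonoidHom u ∈ (lft σ).map (MulAut.conj g).toMonoidHom :=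
    Subgroup.mem_map_of_mem _ hu
  rw [lft, Subgroup.map_commutator] at h
  refine Subgroup.commutator_mono ?_ ?_ h <;>
  · rintro _ ⟨v, hv, rfl⟩
    show σ (g * v * g⁻¹) ∈ KK
    rw [map_mul, map_mul, map_inv, hg]
    exact hn _ hv

end

/-- Central extensions of `HN` by finite groups have a section. -/
theorem exists_section {Γ : Type} [Group Γ] [Finite Γ] (σ : Γ →* Spor.HN)
    (hσ : Function.Surjective σ) (hc : σ.ker ≤ Subgroup.center Γ) :
    ∃ φ : Spor.HN →* Γ, ∀ w, σ (φ w) = w := by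
  obtain ⟨hxK, hyK, -, -, hn⟩ := KK_facts H67.HN.nu_injective
  obtain ⟨X, hX, sX⟩ := (lft_map σ hσ).symm ▸ hxK
  obtain ⟨Y, hY, sY⟩ := (lft_map σ hσ).symm ▸ hyK
  obtain ⟨Z₀, sZ⟩ := hσ gZ
  obtain ⟨T₀, sT⟩ := hσ gT
  have ex : ∀ {u : Γ}, u ∈ lft σ → σ u = 1 → u = 1 := fun h1 h2 => lft_exact σ hσ hc h1 h2
  have cen : ∀ {u : Γ}, σ u = 1 → ∀ w, Commute u w := fun h w =>
    (Subgroup.mem_center_iff.1 (hc h) w).symm
  -- the lift of `t`
  obtain ⟨d, hd⟩ : ∃ d, d = X⁻¹ * T₀ * X * T₀ ^ 2 := ⟨_, rfl⟩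
  obtain ⟨g, hg⟩ : ∃ g, g = T₀ ^ 5 := ⟨_, rfl⟩
  have sd : σ d = 1 := by
    rw [hd, map_mul, map_mul, map_mul, map_inv, map_pow, sX, sT, txc, ← pow_add, tfive]
  have sg : σ g = 1 := by rw [hg, map_pow, sT, tfive]
  have hg3 : g ^ 3 = d ^ 5 := by
    have e : X⁻¹ * T₀ * X = d * (T₀ ^ 2)⁻¹ := by rw [hd, mul_inv_cancel_right]
    have h5 : X⁻¹ * T₀ ^ 5 * X = (X⁻¹ * T₀ * X) ^ 5 := by
      simpa using map_pow (MulAut.conj X⁻¹) T₀ 5
    rw [e, ((cen sd _).inv_right).mul_pow, inv_pow, ← pow_mul, show 2 * 5 = 5 * 2 from rfl, pow_mul,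
      ← hg, mul_assoc, (cen sg X).eq, inv_mul_cancel_left] at h5
    rw [show g ^ 3 = g * g ^ 2 from pow_succ' g 2]
    nth_rewrite 1 [h5]
    rw [inv_mul_cancel_right]
  obtain ⟨e, he⟩ : ∃ e, e = g ^ 2 * (d ^ 3)⁻¹ := ⟨_, rfl⟩
  have hdg : Commute g d := cen sg d
  have he3 : e ^ 3 = d := by
    rw [he, ((hdg.pow_pow 2 3).inv_right).mul_pow, ← pow_mul, mul_comm 2 3, pow_mul, hg3, inv_pow,
      ← pow_mul, ← pow_mul, mul_inv_eq_iff_eq_mul, ← pow_succ']
  have he5 : e ^ 5 = g := by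
    rw [he, ((hdg.pow_pow 2 3).inv_right).mul_pow, inv_pow, ← pow_mul, ← pow_mul,
      show 3 * 5 = 5 * 3 from rfl, pow_mul d 5 3, ← hg3, ← pow_mul, mul_inv_eq_iff_eq_mul,
      ← pow_succ']
  have se : σ e = 1 := by rw [he, map_mul, map_inv, map_pow, map_pow, sg, sd]; simp
  obtain ⟨T, hT⟩ : ∃ T, T = T₀ * e⁻¹ := ⟨_, rfl⟩
  have hec : ∀ w, Commute e⁻¹ w := fun w => (cen se w).inv_left
  have sT' : σ T = gT := by rw [hT, map_mul, map_inv, se, inv_one, mul_one, sT]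
  have hT5 : T ^ 5 = 1 := by
    rw [hT, (hec T₀).symm.mul_pow, inv_pow, he5, ← hg, mul_inv_cancel]
  have hXT : X⁻¹ * T * X * T ^ 2 = 1 := by
    have e1 : X⁻¹ * T * X = X⁻¹ * T₀ * X * e⁻¹ := by
      rw [hT, mul_assoc, mul_assoc T₀, (hec X).eq]; group
    rw [e1, hT, (hec T₀).symm.mul_pow, mul_assoc, ← mul_assoc e⁻¹, (hec (T₀ ^ 2)).eq,
      mul_assoc (T₀ ^ 2), ← mul_assoc, ← hd, ← pow_succ', inv_pow, he3, mul_inv_cancel]
  have hXT' : X⁻¹ * T * X = T ^ 3 := by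
    rw [eq_inv_of_mul_eq_one_left hXT]
    symm
    rw [eq_inv_iff_mul_eq_one, ← pow_add, hT5]
  have hX2 : (X ^ 2)⁻¹ * T * X ^ 2 = T ^ 4 := by
    have e1 : (X ^ 2)⁻¹ * T * X ^ 2 = X⁻¹ * (X⁻¹ * T * X) * X := by rw [sq]; group
    have e2 : X⁻¹ * T ^ 3 * X = (X⁻¹ * T * X) ^ 3 := by simpa using map_pow (MulAut.conj X⁻¹) T 3
    rw [e1, hXT', e2, hXT', ← pow_mul, pow_eq_pow_mod (3 * 3) hT5]
  -- `x²` in the lift
  have hc2 : ∀ h ∈ HNOut.HH, gX ^ 2 * h = h * gX ^ 2 := fun h hh => by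
    obtain ⟨f, rfl⟩ : h ∈ H67.HN.nu.range := HNOut.nu_range_HH.symm ▸ hh
    rw [← HNOut.nu_gx, ← map_pow, ← map_mul, ← map_mul,
      Subgroup.mem_center_iff.1 H67.HN.x2_central f]
  have hX2Y : Commute (X ^ 2) Y := by
    rw [commute_iff_eq, ← commutatorElement_eq_one_iff_mul_comm]
    refine ex (mul_mem (mul_mem (mul_mem (pow_mem hX 2) hY) (inv_mem (pow_mem hX 2))) (inv_mem hY)) ?_
    rw [map_commutatorElement, map_pow, sX, sY, commutatorElement_eq_one_iff_mul_comm]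
    exact hc2 gY (Subgroup.subset_closure (by simp))
  have hTY : Y⁻¹ * T * Y = T := by
    obtain ⟨c, hcd⟩ : ∃ c, c = T⁻¹ * (Y⁻¹ * T * Y) := ⟨_, rfl⟩
    have sc : σ c = 1 := by
      rw [hcd, map_mul, map_mul, map_mul, map_inv, map_inv, sT', sY, mul_assoc gY⁻¹, ← tyc,
        inv_mul_cancel_left, inv_mul_cancel]
    have hYT : Y⁻¹ * T * Y = T * c := by rw [hcd, mul_inv_cancel_left]
    have hk : ∀ k : ℕ, Y⁻¹ * T ^ k * Y = T ^ k * c ^ k := fun k => by
      have h := map_pow (MulAut.conj Y⁻¹) T k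
      rw [MulAut.conj_apply, MulAut.conj_apply, inv_inv, hYT, (cen sc T).symm.mul_pow] at h
      exact h
    have h5 : c ^ 5 = 1 := by
      have h := hk 5
      rw [hT5, mul_one, inv_mul_cancel, one_mul] at h
      exact h.symm
    have h3 : c ^ 3 = 1 := by
      have h := hk 4
      have e1 : Y⁻¹ * T ^ 4 * Y = (X ^ 2)⁻¹ * (Y⁻¹ * T * Y) * X ^ 2 :=
        calc Y⁻¹ * T ^ 4 * Y = (X ^ 2 * Y)⁻¹ * T * (X ^ 2 * Y) := by rw [← hX2]; group
          _ = _ := by rw [hX2Y.eq]; group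
      rw [e1, hYT, show (X ^ 2)⁻¹ * (T * c) * X ^ 2 = (X ^ 2)⁻¹ * T * (c * X ^ 2) by group,
        (cen sc (X ^ 2)).eq, ← mul_assoc, hX2] at h
      have h4 := mul_left_cancel h
      rw [pow_succ'] at h4
      exact mul_eq_left.1 h4.symm
    have h1 : c = 1 := by
      have e6 : c ^ 6 = 1 := by rw [show 6 = 3 * 2 from rfl, pow_mul, h3, one_pow]
      rwa [pow_succ, h5, one_mul] at e6
    rw [hYT, h1, mul_one]
  -- the lift of `z`
  obtain ⟨a, ha⟩ : ∃ a, a = Z₀ ^ 2 := ⟨_, rfl⟩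
  obtain ⟨f, hf⟩ : ∃ f, f = (Z₀ * T) ^ 3 := ⟨_, rfl⟩
  have sa : σ a = 1 := by rw [ha, map_pow, sZ, sq, zsq]
  have sf : σ f = 1 := by rw [hf, map_pow, map_mul, sZ, sT', zt_cube]
  have hZX2 : Commute (X ^ 2) Z₀ := by
    have h : Z₀ * X ^ 2 * Z₀⁻¹ * (X ^ 2)⁻¹ = 1 := by
      refine ex (mul_mem (lft_conj σ hn sZ (pow_mem hX 2)) (inv_mem (pow_mem hX 2))) ?_
      rw [map_mul, map_mul, map_mul, map_inv, map_inv, map_pow, sX, sZ,
        ← hc2 gZ (Subgroup.subset_closure (by simp)), mul_inv_cancel_right, mul_inv_cancel]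
    exact (mul_inv_eq_iff_eq_mul.1 (mul_inv_eq_one.1 h)).symm
  have hfa : f * f = a ^ 3 := by
    have e1 : (Z₀ * T⁻¹) ^ 3 = f := by
      have h := map_pow (MulAut.conj (X ^ 2)⁻¹) (Z₀ * T) 3
      rw [MulAut.conj_apply, MulAut.conj_apply, inv_inv, ← hf, mul_assoc _ f, (cen sf (X ^ 2)).eq,
        inv_mul_cancel_left] at h
      rw [h]
      congr 1
      calc Z₀ * T⁻¹ = Z₀ * T ^ 4 := by
            congr 1; exact inv_eq_of_mul_eq_one_right (by rw [← pow_succ', hT5])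
        _ = (X ^ 2)⁻¹ * (Z₀ * T) * X ^ 2 := by
            rw [← hX2, ← mul_assoc, ← mul_assoc, ← (hZX2.inv_left).eq]; group
    have e2 : (Z₀ * T⁻¹)⁻¹ = T * Z₀ * a⁻¹ := by rw [ha, sq]; group
    have e3 : (T * Z₀) ^ 3 = f := by
      have h := map_pow (MulAut.conj Z₀⁻¹) (Z₀ * T) 3
      rw [MulAut.conj_apply, MulAut.conj_apply, inv_inv, ← hf, mul_assoc _ f, (cen sf Z₀).eq,
        inv_mul_cancel_left] at h
      rw [h]; congr 1; group
    have e4 : f⁻¹ = f * (a ^ 3)⁻¹ := by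
      rw [← e1, ← inv_pow, e2, ((cen sa _).inv_left).symm.mul_pow, e3, inv_pow, e1]
    have e5 := congrArg (fun q => f * q * a ^ 3) e4
    simp only [mul_inv_cancel, one_mul, ← mul_assoc, inv_mul_cancel_right] at e5
    exact e5.symm
  obtain ⟨Z, hZ⟩ : ∃ Z, Z = Z₀ * (a * f⁻¹) := ⟨_, rfl⟩
  have saf : σ (a * f⁻¹) = 1 := by rw [map_mul, map_inv, sa, sf, inv_one, one_mul]
  have hm : Commute a f⁻¹ := cen sa f⁻¹
  have sZ' : σ Z = gZ := by rw [hZ, map_mul, saf, mul_one, sZ]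
  have hZ2 : Z * Z = 1 := by
    rw [hZ, ← sq, (cen saf Z₀).symm.mul_pow, hm.mul_pow, ← ha, ← mul_assoc, ← pow_succ', inv_pow,
      ← hfa, sq, mul_inv_cancel]
  have hZT : (Z * T) ^ 3 = 1 := by
    rw [hZ, mul_assoc Z₀, (cen saf T).eq, ← mul_assoc, (cen saf _).symm.mul_pow, ← hf, hm.mul_pow,
      inv_pow, ← hfa, pow_succ f 2, sq f, mul_inv_rev]
    group
  have hZi : Z⁻¹ = Z := inv_eq_of_mul_eq_one_right hZ2
  have cj : ∀ {u : Γ}, u ∈ lft σ → Z * u * Z ∈ lft σ := fun {u} hu => by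
    have h := lft_conj σ hn sZ' hu
    rwa [hZi] at h
  -- the relators
  let F : HN.Gen → Γ
    | HN.Gen.x => X
    | HN.Gen.y => Y
    | HN.Gen.z => Z
    | HN.Gen.t => T
  have hx : FreeGroup.lift F HN.x = X := FreeGroup.lift_apply_of
  have hy : FreeGroup.lift F HN.y = Y := FreeGroup.lift_apply_of
  have hz : FreeGroup.lift F HN.z = Z := FreeGroup.lift_apply_of
  have ht : FreeGroup.lift F HN.t = T := FreeGroup.lift_apply_of
  have hσF : ∀ r : FreeGroup HN.Gen, σ (FreeGroup.lift F r) = HNOut.mkHN r := by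
    have h : σ.comp (FreeGroup.lift F) = HNOut.mkHN := by
      refine FreeGroup.ext_hom _ _ fun i => ?_
      cases i <;>
        simp only [MonoidHom.comp_apply, FreeGroup.lift_apply_of, F, sX, sY, sZ', sT'] <;> rfl
    exact fun r => DFunLike.congr_fun h r
  suffices hrel : ∀ r ∈ coxRelators HN.edges ∪ {r | r ∈ HN.extra}, FreeGroup.lift F r = 1 by
    refine ⟨PresentedGroup.toGroup hrel, fun w => ?_⟩
    obtain ⟨r, rfl⟩ := PresentedGroup.mk_surjective _ w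
    exact hσF r
  rintro r (hr | hr)
  · simp [coxRelators, coxNodes, HN.edges] at hr
  have h0 : σ (FreeGroup.lift F r) = 1 := (hσF r).trans (rel_one hr)
  simp only [HN.extra, Set.mem_ofPred_eq, List.mem_cons, List.not_mem_nil, or_false] at hr
  rcases hr with rfl | rfl | rfl | rfl | rfl | rfl | rfl | rfl | rfl | rfl | rfl | rfl | rfl | rfl <;>
    simp only [map_mul, map_inv, map_pow, hx, hy, hz, ht] at h0 ⊢ <;>
    simp only [← map_mul, ← map_inv, ← map_pow] at h0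
  · exact ex (pow_mem hY 6) h0
  · exact ex (mul_mem (mul_mem (mul_mem (pow_mem hX 2) hY) (pow_mem hX 2)) (inv_mem hY)) h0
  · exact ex (pow_mem (mul_mem (mul_mem (mul_mem (inv_mem hX) (inv_mem hY)) hX) hY) 3) h0
  · exact ex (pow_mem (mul_mem (mul_mem (mul_mem (inv_mem hX) (pow_mem hY 2)) hX) (pow_mem hY 3)) 3) h0
  · exact ex (pow_mem (mul_mem hX hY) 8) h0
  · exact ex (pow_mem (mul_mem (mul_mem (mul_mem hX hY) hX) (pow_mem hY 3)) 4) h0
  · rw [sq, hZ2]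
  · have e1 : (Z * X) ^ 2 = (Z * X * Z) * X := by rw [sq, ← mul_assoc]
    rw [e1] at h0 ⊢
    exact ex (mul_mem (cj hX) hX) h0
  · rw [hZi] at h0 ⊢
    generalize hA : Y * X * Y * X * Y ^ 2 * X * Y⁻¹ = A at h0 ⊢
    have hAm : A ∈ lft σ := hA ▸ mul_mem (mul_mem (mul_mem (mul_mem (mul_mem (mul_mem hY hX) hY) hX)
      (pow_mem hY 2)) hX) (inv_mem hY)
    exact ex (mul_mem (mul_mem (cj (inv_mem hAm)) hAm) (inv_mem (pow_mem hX 2))) h0
  · generalize hA : Y ^ 3 * X * Y * X * Y = A at h0 ⊢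
    have hAm : A ∈ lft σ := hA ▸ mul_mem (mul_mem (mul_mem (mul_mem (pow_mem hY 3) hX) hY) hX) hY
    have e1 : Z * (A⁻¹ * Z * A * X) ^ 3 =
        (Z * A⁻¹ * Z) * (A * X * A⁻¹) * (Z * (A * X * A⁻¹) * Z) * (A * X) := by
      simp only [pow_succ, pow_zero, one_mul]; group
    rw [e1] at h0 ⊢
    exact ex (mul_mem (mul_mem (mul_mem (cj (inv_mem hAm)) (mul_mem (mul_mem hAm hX) (inv_mem hAm)))
      (cj (mul_mem (mul_mem hAm hX) (inv_mem hAm)))) (mul_mem hAm hX)) h0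
  · exact hT5
  · exact hXT
  · rw [mul_assoc, mul_assoc, ← mul_assoc Y⁻¹, hTY, inv_mul_cancel]
  · exact hZT

/-- The multiplier of `HN` is trivial once it is finite. -/
theorem hasCyclicSchurMultiplier (hfin : Finite Spor.HN) :
    HasCyclicSchurMultiplier Spor.HN 1 := by
  refine ⟨⟨Spor.HN, inferInstance, hfin, MonoidHom.id _, ⟨Function.surjective_id, ?_, ?_⟩, ⟨?_⟩⟩,
    fun Γ _ _ σ hσ => ?_⟩
  · rw [MonoidHom.ker_id]; exact bot_le
  · rw [MonoidHom.ker_id]; exact bot_le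
  · exact
      { toFun := fun _ => 1
        invFun := fun _ => 1
        left_inv := fun w => Subtype.ext (MonoidHom.mem_ker.1 w.2).symm
        right_inv := fun _ => Subsingleton.elim _ _
        map_mul' := fun _ _ => Subsingleton.elim _ _ }
  obtain ⟨φ, hφ⟩ := exists_section σ hσ.1 hσ.2.1
  have hall : ∀ w : Γ, ∃ i ∈ Subgroup.center Γ, w = φ (σ w) * i := fun w =>
    ⟨(φ (σ w))⁻¹ * w, hσ.2.1 (by rw [MonoidHom.mem_ker, map_mul, map_inv, hφ, inv_mul_cancel]),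
      (mul_inv_cancel_left _ _).symm⟩
  have hle : commutator Γ ≤ φ.range := by
    rw [commutator_def, Subgroup.commutator_le]
    intro a _ b _
    obtain ⟨i, hi, ea⟩ := hall a
    obtain ⟨j, hj, eb⟩ := hall b
    refine ⟨⁅σ a, σ b⁆, ?_⟩
    have hi' : ∀ w, w * i = i * w := Subgroup.mem_center_iff.1 hi
    have hj' : ∀ w, w * j = j * w := Subgroup.mem_center_iff.1 hj
    rw [map_commutatorElement]
    conv_rhs => rw [ea, eb]
    rw [commutatorElement_def, commutatorElement_def, mul_inv_rev, mul_inv_rev]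
    generalize φ (σ a) = p
    generalize φ (σ b) = q
    calc p * q * p⁻¹ * q⁻¹ = p * q * (j * p⁻¹ * j⁻¹) * q⁻¹ := by
          rw [← hj', mul_inv_cancel_right]
      _ = p * (i * (q * j) * i⁻¹) * p⁻¹ * (j⁻¹ * q⁻¹) := by
          rw [← hi', mul_inv_cancel_right]; group
      _ = _ := by group
  refine ⟨1, fun w => ⟨1, ?_⟩⟩
  obtain ⟨v, hv⟩ := MonoidHom.mem_range.1 (hle (hσ.2.2 w.2))
  have hv1 : v = 1 := by rw [← hφ v, hv]; exact w.2
  refine Subtype.ext ?_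
  show (1 : Γ) = (w : Γ)
  rw [← hv, hv1, map_one]

end Cfsg.Agent.H87.HNMult
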